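import Cfsg.Agent.Coset.ON.Rep45.Mat

set_option autoImplicit false
set_option maxRecDepth 100000
set_option Elab.async false

namespace CfsgLib.Coset.ON.Rep45

theorem ok0 : itemOK (([0, 0], 1)) = true := by decide +kernel
theorem ok1 : itemOK (([0, 1, 0, 1, 0, 1], 1)) = true := by decide +kernel
theorem ok2 : itemOK (([0, 2, 0, 2], 1)) = true := by decide +kernel
theorem ok3 : itemOK (([0, 3, 0, 3], 1)) = true := by decide +kernel
theorem ok4 : itemOK (([0, 4, 0, 4], 1)) = true := by decide +kernel
theorem ok5 : itemOK (([0, 5, 0, 5], 1)) = true := by decide +kernel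
theorem ok6 : itemOK (([1, 1], 1)) = true := by decide +kernel
theorem ok7 : itemOK (([1, 2, 1, 2, 1, 2], 1)) = true := by decide +kernel
theorem ok8 : itemOK (([1, 3, 1, 3], 1)) = true := by decide +kernel
theorem ok9 : itemOK (([1, 4, 1, 4], 1)) = true := by decide +kernel
theorem ok10 : itemOK (([1, 5, 1, 5], 1)) = true := by decide +kernel

end CfsgLib.Coset.ON.Rep45
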