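import Cfsg.Agent.Coset.ON.Rep45.Mat

set_option autoImplicit false
set_option maxRecDepth 100000
set_option Elab.async false

namespace CfsgLib.Coset.ON.Rep45

theorem ok11 : itemOK (([2, 2], 1)) = true := by decide +kernel
theorem ok12 : itemOK (([2, 3, 2, 3, 2, 3, 2, 3, 2, 3, 2, 3, 2, 3, 2, 3], 1)) = true := by decide +kernel
theorem ok13 : itemOK (([2, 4, 2, 4], 1)) = true := by decide +kernel
theorem ok14 : itemOK (([2, 5, 2, 5], 1)) = true := by decide +kernel
theorem ok15 : itemOK (([3, 3], 1)) = true := by decide +kernel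
theorem ok16 : itemOK (([3, 4, 3, 4, 3, 4], 1)) = true := by decide +kernel
theorem ok17 : itemOK (([3, 5, 3, 5], 1)) = true := by decide +kernel
theorem ok18 : itemOK (([4, 4], 1)) = true := by decide +kernel
theorem ok19 : itemOK (([4, 5, 4, 5, 4, 5], 1)) = true := by decide +kernel

end CfsgLib.Coset.ON.Rep45
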