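import Cfsg.Agent.Coset.ON.Rep45.Mat

set_option autoImplicit false
set_option maxRecDepth 100000
set_option Elab.async false

namespace CfsgLib.Coset.ON.Rep45

theorem ok20 : itemOK (([5, 5], 1)) = true := by decide +kernel
theorem ok21 : itemOK (([0, 5, 7, 7], 1)) = true := by decide +kernel
theorem ok22 : itemOK (([0, 5, 3, 2, 3, 2, 3, 2, 3, 2], 1)) = true := by decide +kernel
theorem ok23 : itemOK (([2, 7, 3, 7, 3, 2, 3, 6, 3, 6], 1)) = true := by decide +kernel
theorem ok24 : itemOK (([3, 7, 2, 7, 2, 3, 2, 6, 2, 6], 1)) = true := by decide +kernel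
theorem ok25 : itemOK (([1, 2, 3, 6, 1, 2, 3, 6, 1, 2, 3, 6, 1, 2, 3, 6, 1, 2, 3, 6], 4)) = true := by decide +kernel

end CfsgLib.Coset.ON.Rep45
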