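import Cfsg.Agent.Coset.ON.Rep45.Mat

set_option autoImplicit false
set_option maxRecDepth 100000
set_option Elab.async false

namespace CfsgLib.Coset.ON.Rep45

theorem ok26 : itemOK (([6, 1, 2, 6, 2, 1, 6, 1, 2, 6, 2], 4)) = true := by decide +kernel
theorem ok27 : itemOK (([6, 4, 3, 6, 3, 4, 6, 4, 3, 6, 3], 4)) = true := by decide +kernel
theorem ok28 : itemOK (([6, 7], 1)) = true := by decide +kernel
theorem ok29 : itemOK (([7, 6], 1)) = true := by decide +kernel

end CfsgLib.Coset.ON.Rep45
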