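import Cfsg.Agent.Coset.ON.Simplicity
import Cfsg.Agent.Coset.ON.Rep45.Chk0
import Cfsg.Agent.Coset.ON.Rep45.Chk1
import Cfsg.Agent.Coset.ON.Rep45.Chk2
import Cfsg.Agent.Coset.ON.Rep45.Chk3
import Mathlib.LinearAlgebra.Matrix.GeneralLinearGroup.Basic
import Mathlib.GroupTheory.SpecificGroups.Cyclic

/-!
The triple cover of O'N in the special linear group of dimension 45 over seven elements.
-/

set_option autoImplicit false
set_option maxRecDepth 100000
set_option Elab.async false

namespace CfsgLib.Coset.ON.Rep45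

open CfsgLib.Coset Matrix

theorem scal_ok : scal.all itemOK = true := by
  simp only [scal, List.all_cons, List.all_nil, Bool.and_self, ok0, ok1, ok2, ok3, ok4, ok5, ok6, ok7, ok8, ok9, ok10, ok11, ok12, ok13, ok14, ok15, ok16, ok17, ok18, ok19, ok20, ok21, ok22, ok23, ok24, ok25, ok26, ok27, ok28, ok29]

theorem scal_words : scal.map Prod.fst = rels := by decide +kernel

theorem prod_scal {w : List Nat} {c : Nat} (h : (w, c) ∈ scal) :
    (w.map mat).prod = Matrix.scalar (Fin 45) ((c : Nat) : ZMod 7) := by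
  have h' := List.all_eq_true.mp scal_ok _ h
  simp only [itemOK, Bool.and_eq_true, List.all_eq_true, Nat.blt_eq] at h'
  exact prod_of_scalarOK h'.1.2 h'.1.1 h'.2

theorem inv_mat : ∀ x < 8, mat x * mat (iv x) = 1 ∧ mat (iv x) * mat x = 1 := by
  have hm : ∀ x < 8, ([x, iv x], 1) ∈ scal ∧ ([iv x, x], 1) ∈ scal := by decide +kernel
  intro x hx
  have h1 := prod_scal (hm x hx).1
  have h2 := prod_scal (hm x hx).2
  simp only [List.map_cons, List.map_nil, List.prod_cons, List.prod_nil, mul_one, Nat.cast_one,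
    map_one] at h1 h2
  exact ⟨h1, h2⟩

/-- The invertible matrix of a letter. -/
noncomputable def gen (x : Fin 8) : GL (Fin 45) (ZMod 7) :=
  ⟨mat x, mat (iv x), (inv_mat x x.isLt).1, (inv_mat x x.isLt).2⟩

/-- The triple cover. -/
noncomputable def Γ45 : Subgroup (GL (Fin 45) (ZMod 7)) := Subgroup.closure (Set.range gen)

/-- The generators in the triple cover. -/
noncomputable def Lc : List Γ45 :=
  List.ofFn fun x : Fin 8 => ⟨gen x, Subgroup.subset_closure ⟨x, rfl⟩⟩

theorem fl_Lc {l : Nat} (hl : l < 8) : fl Lc l = ⟨gen ⟨l, hl⟩, Subgroup.subset_closure ⟨_, rfl⟩⟩ := by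
  rw [fl, List.getD_eq_getElem _ _ (by simpa [Lc] using hl)]
  exact List.getElem_ofFn _

theorem val_ev : ∀ w : List Nat, (∀ l ∈ w, l < 8) →
    ((ev Lc w : Γ45) : GL (Fin 45) (ZMod 7)).val = (w.map mat).prod
  | [], _ => by simp
  | l :: w, h => by
    rw [ev_cons, fl_Lc (h l (by simp)), Subgroup.coe_mul, Units.val_mul,
      val_ev w fun a ha => h a (by simp [ha])]
    rfl

theorem ext_val {a b : Γ45} (h : (a : GL (Fin 45) (ZMod 7)).val = (b : GL (Fin 45) (ZMod 7)).val) :
    a = b := Subtype.ext (Units.ext h)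

theorem inv_Lc (x : Nat) : fl Lc (iv x) = (fl Lc x)⁻¹ := by
  rcases Nat.lt_or_ge x 8 with hx | hx
  · refine (inv_eq_of_mul_eq_one_right (ext_val ?_)).symm
    have hx' : iv x < 8 := by revert x; decide +kernel
    rw [fl_Lc hx, fl_Lc hx']
    exact (inv_mat x hx).1
  · have h : iv x = x := by
      have h6 : Nat.beq x 6 = false := Bool.eq_false_iff.mpr fun h => by
        have := Nat.eq_of_beq_eq_true h; omega
      have h7 : Nat.beq x 7 = false := Bool.eq_false_iff.mpr fun h => by
        have := Nat.eq_of_beq_eq_true h; omega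
      simp [iv, h6, h7]
    rw [h, fl_of_le _ (by simp [Lc, hx]), inv_one]

/-- The word giving the scalar of order three. -/
def omW : List Nat := [6, 1, 2, 6, 2, 1, 6, 1, 2, 6, 2]

theorem omW_mem : (omW, 4) ∈ scal := by decide +kernel

/-- The scalar of order three. -/
noncomputable def om : Γ45 := ev Lc omW

theorem val_om : (om : GL (Fin 45) (ZMod 7)).val = Matrix.scalar (Fin 45) (4 : ZMod 7) := by
  rw [om, val_ev _ (by decide +kernel), prod_scal omW_mem]
  rfl

theorem om_central : om ∈ Subgroup.center Γ45 := by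
  refine Subgroup.mem_center_iff.mpr fun x => ext_val ?_
  rw [Subgroup.coe_mul, Subgroup.coe_mul, Units.val_mul, Units.val_mul, val_om]
  exact ((Matrix.scalar_commute (4 : ZMod 7) (fun r => mul_comm _ r)
    (x : GL (Fin 45) (ZMod 7)).val).eq).symm

theorem om_order : orderOf om = 3 := by
  haveI : Fact (Nat.Prime 3) := ⟨Nat.prime_three⟩
  refine orderOf_eq_prime (ext_val ?_) fun h => ?_
  · rw [Subgroup.coe_pow, Units.val_pow_eq_pow_val, val_om, ← map_pow,
      show (4 : ZMod 7) ^ 3 = 1 by decide, map_one]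
    rfl
  · have h' := congrArg (fun a : Γ45 => (a : GL (Fin 45) (ZMod 7)).val 0 0) h
    simp [val_om, Matrix.scalar_apply] at h'
    exact absurd h' (by decide)

theorem rels_mem : ∀ w ∈ rels, ev Lc w ∈ Subgroup.zpowers om := by
  intro w hw
  rw [← scal_words] at hw
  obtain ⟨⟨w, c⟩, hp, rfl⟩ := List.mem_map.mp hw
  have hc : ∀ p ∈ scal, p.2 = 1 ∨ p.2 = 4 := by decide +kernel
  have hl : ∀ p ∈ scal, ∀ l ∈ p.1, l < 8 := by decide +kernel
  rcases hc _ hp with hc | hc <;> simp only at hc <;> subst hc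
  · have : ev Lc w = 1 := ext_val (by rw [val_ev w (hl _ hp), prod_scal hp]; simp)
    rw [this]; exact one_mem _
  · have : ev Lc w = om := ext_val (by rw [val_ev w (hl _ hp), prod_scal hp, val_om]; rfl)
    rw [this]; exact Subgroup.mem_zpowers _

theorem noncomm_ON : ∃ a b : Cfsg.Spor.ON, a * b ≠ b * a := by
  by_contra h
  push Not at h
  haveI := isSimple
  haveI := card_ON.1
  letI : CommGroup Cfsg.Spor.ON := { (inferInstance : Group Cfsg.Spor.ON) with mul_comm := h }
  have hp : (Nat.card Cfsg.Spor.ON).Prime := IsSimpleGroup.prime_card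
  rw [card_ON.2] at hp
  exact absurd hp (by norm_num)

theorem not_commute : fl Lc 0 * fl Lc 1 ≠ fl Lc 1 * fl Lc 0 := by
  intro h
  have hv := congrArg (fun a : Γ45 => (a : GL (Fin 45) (ZMod 7)).val) h
  simp only [Subgroup.coe_mul, Units.val_mul, fl_Lc (show 0 < 8 by norm_num),
    fl_Lc (show 1 < 8 by norm_num)] at hv
  change mat 0 * mat 1 = mat 1 * mat 0 at hv
  have h2 : enc ((Pi.single 0 1 : Fin 45 → ZMod 7) ᵥ* ([0, 1].map mat).prod) =
      enc ((Pi.single 0 1 : Fin 45 → ZMod 7) ᵥ* ([1, 0].map mat).prod) := by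
    simp only [List.map_cons, List.map_nil, List.prod_cons, List.prod_nil, mul_one, hv]
  rw [← runW_eq _ (by decide), ← runW_eq _ (by decide)] at h2
  have h3 : (Pi.single 0 1 : Fin 45 → ZMod 7) = Pi.single 0 ((1 : Nat) : ZMod 7) := by
    rw [Nat.cast_one]
  rw [h3, ← unitV_eq 1 (by norm_num)] at h2
  have h4 : Nat.beq (runW [0, 1] (unitV 1 0)) (runW [1, 0] (unitV 1 0)) = false := by decide +kernel
  rw [show ((0 : Fin 45) : Nat) = 0 from rfl] at h2
  rw [h2, Nat.beq_refl] at h4
  exact absurd h4 (by decide)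

theorem closure_Lc : Subgroup.closure {x | x ∈ Lc} = ⊤ := by
  refine Subgroup.map_injective Γ45.subtype_injective ?_
  rw [MonoidHom.map_closure, ← MonoidHom.range_eq_map, Subgroup.range_subtype]
  refine (congrArg Subgroup.closure ?_).trans rfl
  ext x
  constructor
  · rintro ⟨_, hy, rfl⟩
    obtain ⟨i, rfl⟩ := List.mem_ofFn.mp hy
    exact ⟨i, rfl⟩
  · rintro ⟨i, rfl⟩
    exact ⟨⟨gen i, Subgroup.subset_closure ⟨i, rfl⟩⟩, List.mem_ofFn.mpr ⟨i, rfl⟩, rfl⟩

theorem not_abelian {N : Subgroup Γ45} (hc : N ≤ Subgroup.center Γ45) : N ≠ ⊤ := fun h =>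
  not_commute (Subgroup.mem_center_iff.mp (hc (h ▸ Subgroup.mem_top (fl Lc 1))) (fl Lc 0))

instance : (Subgroup.zpowers om).Normal := ⟨fun n hn g => by
  rw [Subgroup.mem_center_iff.mp ((Subgroup.zpowers_le.mpr om_central) hn) g, mul_inv_cancel_right]
  exact hn⟩

theorem quot_equiv : Nonempty (Cfsg.Spor.ON ≃* Γ45 ⧸ Subgroup.zpowers om) := by
  let π := QuotientGroup.mk' (Subgroup.zpowers om)
  have hev : ∀ w, ev (Lc.map π) w = π (ev Lc w) := by
    intro w
    induction w with
    | nil => simp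
    | cons l w ih =>
      rw [ev_cons, ev_cons, map_mul, ih]
      congr 1
      show (Lc.map π).getD l 1 = π (Lc.getD l 1)
      rw [← map_one π, List.getD_map]
  have hr : ∀ w ∈ rels, ev (Lc.map π) w = 1 := fun w hw => by
    rw [hev]; exact (QuotientGroup.eq_one_iff _).mpr (rels_mem w hw)
  have hfl : ∀ l, fl (Lc.map π) l = π (fl Lc l) := fun l => by simpa using hev [l]
  have hiv : ∀ x, fl (Lc.map π) (iv x) = (fl (Lc.map π) x)⁻¹ := fun x => by
    rw [hfl, hfl, inv_Lc, map_inv]
  let f := hom hiv hr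
  have hs : Function.Surjective f := by
    intro y
    obtain ⟨x, rfl⟩ := QuotientGroup.mk'_surjective _ y
    have hx : x ∈ Subgroup.closure {z | z ∈ Lc} := closure_Lc ▸ Subgroup.mem_top x
    refine MonoidHom.mem_range.mp ((Subgroup.closure_le (K := f.range.comap π)).mpr ?_ hx)
    intro z hz
    obtain ⟨l, hl, rfl⟩ := List.getElem_of_mem hz
    have hl8 : l < 8 := by simpa [Lc] using hl
    refine ⟨fl Lg l, ?_⟩
    rw [show f = hom hiv hr from rfl, hom_fl hiv hr hl8, hfl, ← List.getD_eq_getElem Lc 1 hl]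
    rfl
  haveI := isSimple
  rcases (MonoidHom.normal_ker f).eq_bot_or_eq_top with h | h
  · exact ⟨MulEquiv.ofBijective f ⟨(MonoidHom.ker_eq_bot_iff f).mp h, hs⟩⟩
  · refine absurd ?_ (not_abelian (Subgroup.zpowers_le.mpr om_central))
    refine eq_top_iff.mpr fun x _ => ?_
    obtain ⟨y, hy⟩ := hs (π x)
    rw [MonoidHom.mem_ker.mp (h ▸ Subgroup.mem_top y : y ∈ f.ker)] at hy
    exact (QuotientGroup.eq_one_iff x).mp hy.symm

theorem center_eq : Subgroup.center Γ45 = Subgroup.zpowers om := by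
  refine le_antisymm ?_ (Subgroup.zpowers_le.mpr om_central)
  obtain ⟨e⟩ := quot_equiv
  haveI := isSimple
  haveI : IsSimpleGroup (Γ45 ⧸ Subgroup.zpowers om) := e.symm.isSimpleGroup
  let Z := (Subgroup.center Γ45).map (QuotientGroup.mk' (Subgroup.zpowers om))
  haveI : Z.Normal := Subgroup.Normal.map inferInstance _ (QuotientGroup.mk'_surjective _)
  rcases (inferInstance : Z.Normal).eq_bot_or_eq_top with h | h
  · exact fun x hx => (QuotientGroup.eq_one_iff x).mp
      (Subgroup.mem_bot.mp (h ▸ Subgroup.mem_map_of_mem _ hx))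
  · exfalso
    obtain ⟨a, b, hab⟩ := noncomm_ON
    refine hab (e.injective ?_)
    have hm : e b ∈ Z := h ▸ Subgroup.mem_top _
    obtain ⟨y, hy, hy'⟩ := hm
    obtain ⟨x, hx⟩ := QuotientGroup.mk'_surjective _ (e a)
    rw [map_mul, map_mul, ← hy', ← hx, ← map_mul, ← map_mul, Subgroup.mem_center_iff.mp hy x]

theorem det_eq_one : ∀ x ∈ Γ45, Matrix.det (x : GL (Fin 45) (ZMod 7)).val = 1 := by
  let d : Γ45 →* (ZMod 7)ˣ := Matrix.GeneralLinearGroup.det.comp Γ45.subtype
  have hdet : ∀ x : Γ45, ((d x : (ZMod 7)ˣ) : ZMod 7) =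
      Matrix.det (x : GL (Fin 45) (ZMod 7)).val := fun x =>
    Matrix.GeneralLinearGroup.val_det_apply _
  have hom : d om = 1 := Units.ext (by
    rw [hdet, val_om, Matrix.scalar_apply, Matrix.det_diagonal, Finset.prod_const, Finset.card_fin,
      show (45 : ℕ) = 3 * 15 from rfl, pow_mul, show (4 : ZMod 7) ^ 3 = 1 by decide, one_pow,
      Units.val_one])
  let d' : Γ45 ⧸ Subgroup.zpowers om →* (ZMod 7)ˣ :=
    QuotientGroup.lift _ d (Subgroup.zpowers_le.mpr hom)
  obtain ⟨e⟩ := quot_equiv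
  haveI := isSimple
  have hd : (d'.comp e.toMonoidHom).ker = ⊤ :=
    (MonoidHom.normal_ker _).eq_bot_or_eq_top.resolve_left fun h => by
      obtain ⟨a, b, hab⟩ := noncomm_ON
      exact hab ((MonoidHom.ker_eq_bot_iff _).mp h (by rw [map_mul, map_mul, mul_comm]))
  intro x hx
  have h1 : d'.comp e.toMonoidHom (e.symm (QuotientGroup.mk ⟨x, hx⟩)) = 1 :=
    MonoidHom.mem_ker.mp (hd ▸ Subgroup.mem_top _)
  rw [MonoidHom.comp_apply, MulEquiv.coe_toMonoidHom, MulEquiv.apply_symm_apply] at h1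
  have h2 : d ⟨x, hx⟩ = 1 := by
    rw [← h1]; exact (QuotientGroup.lift_mk' _ _ _).symm
  rw [← hdet ⟨x, hx⟩, h2, Units.val_one]

/-- The embedding in the special linear group. -/
noncomputable def toSL : Γ45 →* Matrix.SpecialLinearGroup (Fin 45) (ZMod 7) where
  toFun x := ⟨(x : GL (Fin 45) (ZMod 7)).val, det_eq_one x x.2⟩
  map_one' := Subtype.ext rfl
  map_mul' _ _ := Subtype.ext rfl

theorem toSL_injective : Function.Injective toSL := fun _ _ h =>
  ext_val (congrArg Subtype.val h)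

/-- The realization. -/
theorem realization : ∃ H : Subgroup (Matrix.SpecialLinearGroup (Fin 45) (ZMod 7)),
    Nat.card (Subgroup.center H) = 3 ∧ Cfsg.IsON (H ⧸ Subgroup.center H) := by
  let e := MonoidHom.ofInjective toSL_injective
  have hmap : (Subgroup.center Γ45).map e.toMonoidHom = Subgroup.center toSL.range := by
    ext y
    constructor
    · rintro ⟨x, hx, rfl⟩
      refine Subgroup.mem_center_iff.mpr fun z => ?_
      obtain ⟨z, rfl⟩ := e.surjective z
      show e z * e x = e x * e z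
      rw [← map_mul, ← map_mul, Subgroup.mem_center_iff.mp hx z]
    · intro hy
      refine ⟨e.symm y, Subgroup.mem_center_iff.mpr fun z => e.injective ?_, e.apply_symm_apply y⟩
      rw [map_mul, map_mul, e.apply_symm_apply]
      exact Subgroup.mem_center_iff.mp hy _
  refine ⟨toSL.range, ?_, ?_⟩
  · rw [← hmap, Subgroup.card_map_of_injective (f := e.toMonoidHom) e.injective, center_eq, Nat.card_zpowers, om_order]
  · obtain ⟨e1⟩ := quot_equiv
    let e2 : Γ45 ⧸ Subgroup.zpowers om ≃* toSL.range ⧸ Subgroup.center toSL.range :=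
      QuotientGroup.congr _ _ e (by rw [← center_eq]; exact hmap)
    let f := e1.trans e2
    haveI := isSimple
    exact ⟨f.symm.isSimpleGroup, (Nat.card_congr f.symm.toEquiv).trans card_ON.2⟩

end CfsgLib.Coset.ON.Rep45
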