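import Cfsg.Agent.J1Orders.Pack
import Cfsg.Agent.Coset.Sift
import Cfsg.Agent.Coset.ON.Rep45.Data

/-!
Row vectors over seven elements packed in 24-bit fields, multiplied by packed matrices in the kernel.
-/

set_option autoImplicit false
set_option maxRecDepth 100000

namespace CfsgLib.Coset.ON.Rep45

open CfsgLib.Coset CfsgLib.J1Orders Matrix

section Kernel

/-- A combination of rows with the fields of a vector as coefficients. -/
noncomputable def acc (rows : List Nat) (v : Nat) : Nat :=
  List.rec (motive := fun _ => Nat → Nat) (fun _ => 0)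
    (fun r _ ih v => force (Nat.land v 16777215) fun a => force (Nat.shiftRight v 24) fun v' =>
      force (ih v') fun s => Nat.add (Nat.mul a r) s) rows v

/-- Low eight bits of every field. -/
def mask : Nat := P 45 fun _ => 255

/-- Fieldwise reduction modulo seven, for fields at most 1700. -/
noncomputable def red (X : Nat) : Nat :=
  force X fun X => Nat.sub X (Nat.mul (Nat.land (Nat.shiftRight (Nat.mul X 2341) 14) mask) 7)

/-- A vector through a word of matrices. -/
noncomputable def runW (w : List Nat) (v : Nat) : Nat :=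
  List.rec (motive := fun _ => Nat → Nat) (fun v => v)
    (fun l _ ih v => force (red (acc (allRows.getD l []) v)) ih) w v

/-- A unit vector times a scalar. -/
noncomputable def unitV (c i : Nat) : Nat := Nat.mul c (2 ^ (24 * i))

/-- A word gives a scalar matrix. -/
noncomputable def scalarOK (w : List Nat) (c : Nat) : Bool :=
  (List.range 45).all fun i => Nat.beq (runW w (unitV 1 i)) (unitV c i)

/-- The test of a relator with its scalar. -/
noncomputable def itemOK (p : List Nat × Nat) : Bool :=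
  Nat.blt p.2 7 && (p.1.all fun l => Nat.blt l 8) && scalarOK p.1 p.2

end Kernel

/-- A vector as fields. -/
def fld (x : Fin 45 → ZMod 7) (t : Nat) : Nat := if h : t < 45 then (x ⟨t, h⟩).val else 0

/-- A vector as a number. -/
def enc (x : Fin 45 → ZMod 7) : Nat := P 45 (fld x)

/-- The matrix of a letter. -/
def mat (l : Nat) : Matrix (Fin 45) (Fin 45) (ZMod 7) := fun i j =>
  (((allRows.getD l []).getD i.val 0 / 2 ^ (24 * j.val) % 2 ^ 24 : Nat) : ZMod 7)

theorem force_id {α : Type} (x : Nat) (f : Nat → α) : force x f = f x := by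
  cases x <;> rfl

theorem fld_lt (x : Fin 45 → ZMod 7) (t : Nat) : fld x t < 7 := by
  rw [fld]; split
  · exact ZMod.val_lt _
  · norm_num

theorem rows_ok : ∀ l < 8, (allRows.getD l []) = List.ofFn fun i => enc (mat l i) := by
  decide +kernel

theorem acc_ofFn : ∀ (n : ℕ) (f : ℕ → ℕ) (g : Fin n → ℕ), (∀ t, f t < 2 ^ 24) →
    acc (List.ofFn g) (P n f) = ∑ i : Fin n, f i.val * g i
  | 0, f, g, _ => by simp [acc]
  | n + 1, f, g, h => by
    rw [List.ofFn_succ]
    show force (Nat.land (P (n + 1) f) 16777215) (fun a => force (Nat.shiftRight (P (n + 1) f) 24)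
      fun v' => force (acc _ v') fun s => Nat.add (Nat.mul a (g 0)) s) = _
    rw [force_id, force_id, force_id, Fin.sum_univ_succ]
    have h0 := h 0
    have e1 : Nat.land (P (n + 1) f) 16777215 = f 0 := by
      show P (n + 1) f &&& (2 ^ 24 - 1) = f 0
      rw [Nat.and_two_pow_sub_one_eq_mod, P]
      omega
    have e2 : Nat.shiftRight (P (n + 1) f) 24 = P n fun t => f (t + 1) := by
      show P (n + 1) f >>> 24 = _
      rw [Nat.shiftRight_eq_div_pow, P, P_zero_div h0]
    rw [e1, e2, acc_ofFn n _ _ fun t => h _]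
    rfl

theorem P_zero : ∀ N : ℕ, P N (fun _ => 0) = 0
  | 0 => rfl
  | n + 1 => by simp [P, P_zero n]

theorem P_sum {ι : Type} (N : ℕ) (c : ι → ℕ) (g : ι → ℕ → ℕ) (s : Finset ι) :
    ∑ i ∈ s, c i * P N (g i) = P N fun t => ∑ i ∈ s, c i * g i t := by
  classical
  induction s using Finset.induction with
  | empty => simp [P_zero]
  | insert a s ha ih =>
    rw [Finset.sum_insert ha, ih, mul_comm, P_smul, P_add]
    exact P_congr fun t _ => by rw [Finset.sum_insert ha, mul_comm]

theorem P_shift14 : ∀ (N : ℕ) (f : ℕ → ℕ), (∀ t, f t < 2 ^ 22) →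
    (P N f >>> 14) &&& P N (fun _ => 255) = P N (fun t => f t / 2 ^ 14)
  | 0, _, _ => by simp [P]
  | n + 1, f, h => by
    simp only [P]
    set R := P n (fun t => f (t + 1)) with hR
    have h0 := h 0
    rw [Nat.shiftRight_eq_div_pow]
    have e : (2 ^ 24 * R + f 0) / 2 ^ 14
        = 2 ^ 24 * (R / 2 ^ 14) + (2 ^ 10 * (R % 2 ^ 14) + f 0 / 2 ^ 14) := by
      omega
    rw [e, land_split _ _ _ _ (by omega) (by norm_num), ← Nat.shiftRight_eq_div_pow, hR,
      P_shift14 n _ (fun t => h _)]
    congr 1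
    have h255 := Nat.and_two_pow_sub_one_eq_mod (2 ^ 10 * (R % 2 ^ 14) + f 0 / 2 ^ 14) 8
    norm_num at h255 ⊢
    rw [h255]
    omega

theorem mod7_magic : ∀ s : Fin 1701, (s : ℕ) - (s * 2341 / 2 ^ 14) * 7 = s % 7 ∧
    (s * 2341 / 2 ^ 14) * 7 ≤ (s : ℕ) ∧ (s : ℕ) * 2341 < 2 ^ 22 := by
  decide +kernel

theorem red_P (s : ℕ → ℕ) (hs : ∀ t, s t ≤ 1700) :
    red (P 45 s) = P 45 fun t => s t % 7 := by
  rw [red, force_id]
  change P 45 s - ((P 45 s * 2341) >>> 14 &&& mask) * 7 = _
  have key : ∀ t, s t - (s t * 2341 / 2 ^ 14) * 7 = s t % 7 ∧ (s t * 2341 / 2 ^ 14) * 7 ≤ s t ∧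
      s t * 2341 < 2 ^ 22 := fun t => mod7_magic ⟨s t, by have := hs t; omega⟩
  rw [P_smul, mask, P_shift14 _ _ (fun t => (key t).2.2), P_smul]
  rw [Nat.sub_eq_iff_eq_add]
  · rw [P_add]
    exact P_congr fun t _ => by have := key t; omega
  · have : P 45 (fun t => s t * 2341 / 2 ^ 14 * 7) + P 45 (fun t => s t % 7) = P 45 s := by
      rw [P_add]
      exact P_congr fun t _ => by have := key t; omega
    omega

theorem step_eq {l : Nat} (hl : l < 8) (x : Fin 45 → ZMod 7) :
    red (acc (allRows.getD l []) (enc x)) = enc (x ᵥ* mat l) := by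
  rw [rows_ok l hl, enc, acc_ofFn 45 _ _ fun t => by have := fld_lt x t; omega]
  simp only [enc]
  rw [P_sum]
  have hb : ∀ t, ∑ i : Fin 45, fld x i.val * fld (mat l i) t ≤ 1700 := by
    intro t
    have h36 : ∀ i : Fin 45, fld x i.val * fld (mat l i) t ≤ 36 := fun i => by
      have h1 := fld_lt x i.val
      have h2 := fld_lt (mat l i) t
      calc _ ≤ 6 * 6 := Nat.mul_le_mul (by omega) (by omega)
        _ = 36 := rfl
    calc _ ≤ ∑ _i : Fin 45, 36 := Finset.sum_le_sum fun i _ => h36 i
      _ ≤ 1700 := by simp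
  rw [red_P _ hb]
  refine P_congr fun t ht => ?_
  have e : ((∑ i : Fin 45, fld x i.val * fld (mat l i) t : ℕ) : ZMod 7) = (x ᵥ* mat l) ⟨t, ht⟩ := by
    push_cast
    simp only [Matrix.vecMul, dotProduct]
    refine Finset.sum_congr rfl fun i _ => ?_
    simp [fld, ht, i.isLt]
  rw [← ZMod.val_natCast (n := 7), e]
  simp [fld, ht]

theorem runW_eq : ∀ (w : List Nat), (∀ l ∈ w, l < 8) → ∀ x : Fin 45 → ZMod 7,
    runW w (enc x) = enc (x ᵥ* (w.map mat).prod)
  | [], _, x => by simp [runW]
  | l :: w, h, x => by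
    show force (red (acc (allRows.getD l []) (enc x))) (runW w) = _
    rw [force_id, step_eq (h l (by simp)), runW_eq w (fun a ha => h a (by simp [ha])),
      List.map_cons, List.prod_cons, Matrix.vecMul_vecMul]

theorem enc_injective : Function.Injective enc := by
  intro x y h
  funext i
  have hb : ∀ (z : Fin 45 → ZMod 7) (t : Nat), fld z t < 2 ^ 24 := fun z t => by
    have := fld_lt z t; omega
  have h2 : fld x i.val = fld y i.val := by
    rw [← P_field 45 i.val _ (hb x) i.isLt, ← P_field 45 i.val _ (hb y) i.isLt]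
    rw [show P 45 (fld x) = P 45 (fld y) from h]
  simp only [fld, i.isLt, dite_true, Fin.eta] at h2
  exact ZMod.val_injective 7 h2

theorem unitV_eq : ∀ c < 7, ∀ i : Fin 45,
    unitV c i.val = enc (Pi.single i ((c : Nat) : ZMod 7)) := by
  decide +kernel

/-- A checked word gives a scalar matrix. -/
theorem prod_of_scalarOK {w : List Nat} {c : Nat} (hl : ∀ l ∈ w, l < 8) (hc : c < 7)
    (h : scalarOK w c = true) : (w.map mat).prod = Matrix.scalar (Fin 45) ((c : Nat) : ZMod 7) := by
  ext i j
  have h1 := Nat.eq_of_beq_eq_true (List.all_eq_true.mp h i.val (List.mem_range.mpr i.isLt))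
  rw [unitV_eq 1 (by norm_num), unitV_eq c hc, runW_eq w hl] at h1
  have h2 := congrFun (enc_injective h1) j
  rw [Nat.cast_one, Matrix.single_vecMul] at h2
  rw [one_smul] at h2
  change (w.map mat).prod i j = (Pi.single i ((c : Nat) : ZMod 7) : Fin 45 → ZMod 7) j at h2
  rw [h2, Matrix.scalar_apply, Matrix.diagonal_apply, Pi.single_apply]
  by_cases hij : i = j
  · subst hij; simp
  · simp [hij, Ne.symm hij]

end CfsgLib.Coset.ON.Rep45
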